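import Groth.Agent.H27Mul.GGEventually
import Groth.Agent.H11Ample.Counit
import Groth.Agent.H11Ample.AmpleOn
import Groth.Agent.H11Ample.UnitIso
import Groth.Agent.H8Props.Stein.Basic
import Groth.Agent.LeadBC.GenBC.AppIsoApps
import Groth.Agent.S1297
import Groth.Agent.S0388

/-!
# The fibre space of a semiample invertible module
-/

set_option autoImplicit false
set_option linter.style.haveILetI false
set_option linter.unusedSectionVars false
set_option backward.isDefEq.respectTransparency.types false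
universe u

open CategoryTheory CategoryTheory.Limits AlgebraicGeometry Opposite TopologicalSpace
open Groth.Agent Groth.Agent.H11Ample Groth.Agent.H11Tilde

noncomputable section

namespace Groth.Agent.H27Pos

theorem tensorPow_congr {X : Scheme.{u}} {L L' : X.Modules} (τ : L ≅ L') :
    ∀ i, Nonempty (CohB1.tensorPow L i ≅ CohB1.tensorPow L' i)
  | 0 => ⟨Iso.refl _⟩
  | i + 1 => by
    obtain ⟨e⟩ := tensorPow_congr τ i
    exact ⟨PicGrp.tensorModIso e τ⟩

variable {X Y : Scheme.{u}} (φ : X ⟶ Y)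

/-- An invertible module with a power coming from the base is locally on the base generated by one section. -/
theorem exists_gen_over [Surjective φ] (hφ : ∀ U : Y.Opens, IsIso (φ.app U)) {M : X.Modules}
    (hM : PicF.IsInvertible M) (hg : Curv2.IsGloballyGenerated M) {B : Y.Modules} (hB : PicF.IsInvertible B)
    {n : ℕ} (hn : 0 < n) (Ψ : CohB1.tensorPow M n ≅ (Scheme.Modules.pullback φ).obj B) (y : Y) :
    ∃ (V : Y.Opens) (t : Γ(M, φ ⁻¹ᵁ V)), y ∈ V ∧ IsGen M t := by
  obtain ⟨x, rfl⟩ := φ.surjective y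
  obtain ⟨s, hs⟩ := exists_mem_gen_of_isGloballyGenerated hM hg x
  obtain ⟨V, e, hxV, he⟩ := exists_gen hB (φ x)
  let s' := Ψ.hom.app ⊤ (spow s n)
  have he' := IsGen.pullSect φ he
  obtain ⟨c, hc⟩ := exists_coeff he'
    (((Scheme.Modules.pullback φ).obj B).presheaf.map (homOfLE (le_top : φ ⁻¹ᵁ V ≤ ⊤)).op s')
  haveI := hφ V
  obtain ⟨a, ha⟩ := (ConcreteCategory.bijective_of_isIso (φ.app V)).2 c
  have hgen : gen M s ⊓ φ ⁻¹ᵁ V = φ ⁻¹ᵁ Y.basicOpen a := by
    rw [Scheme.preimage_basicOpen, ← gen_spow hM s n hn, ← gen_iso Ψ.hom]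
    exact (gen_inf_eq_basicOpen he' s' c hc).trans (congrArg X.basicOpen ha.symm)
  refine ⟨Y.basicOpen a, M.presheaf.map (homOfLE (le_top : φ ⁻¹ᵁ Y.basicOpen a ≤ ⊤)).op s,
    (hgen.le ⟨hs, hxV⟩ :), ?_⟩
  have := (isGen_gen s).res (hgen.ge.trans inf_le_left)
  rwa [H10Coh.mres_mres] at this

/-- So it descends. -/
theorem descend [Surjective φ] (hφ : ∀ U : Y.Opens, IsIso (φ.app U)) {M : X.Modules}
    (hM : PicF.IsInvertible M) (hg : Curv2.IsGloballyGenerated M) {B : Y.Modules} (hB : PicF.IsInvertible B)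
    {n : ℕ} (hn : 0 < n) (Ψ : CohB1.tensorPow M n ≅ (Scheme.Modules.pullback φ).obj B) :
    PicF.IsInvertible ((Scheme.Modules.pushforward φ).obj M) ∧
      IsIso ((Scheme.Modules.pullbackPushforwardAdjunction φ).counit.app M) := by
  have key : ∀ {V : Y.Opens} {t : Γ(M, φ ⁻¹ᵁ V)}, IsGen M t →
      IsGen ((Scheme.Modules.pushforward φ).obj M) (pushSec φ M V t) := fun {V t} ht =>
    H11Tilde.isGen_of_bijective fun W hW => by
      haveI := hφ W
      exact (ht.bijective (φ.preimage_mono hW)).comp (ConcreteCategory.bijective_of_isIso (φ.app W))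
  refine ⟨isInvertible_of_gen fun y => ?_, H11Tilde.isIso_of_gen _ fun x => ?_⟩
  · obtain ⟨V, t, hy, ht⟩ := exists_gen_over φ hφ hM hg hB hn Ψ y
    exact ⟨V, _, hy, key ht⟩
  · obtain ⟨V, t, hy, ht⟩ := exists_gen_over φ hφ hM hg hB hn Ψ (φ x)
    refine ⟨φ ⁻¹ᵁ V, _, hy, (key ht).pullSect φ, ?_⟩
    rw [counit_app_pullSect]
    exact ht

/-- Invertible modules on the base are recovered from their inverse images. -/
theorem nonempty_iso_push (hu : IsIso (ClSub.unitToPush φ)) {N : Y.Modules} (hN : PicF.IsInvertible N) :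
    Nonempty (N ≅ (Scheme.Modules.pushforward φ).obj ((Scheme.Modules.pullback φ).obj N)) := by
  haveI := hu
  haveI := H27Mul.isIso_proj φ (Coh.structureModule X) N hN
  exact ⟨(tensorLeftUnitIso N).symm ≪≫ PicGrp.tensorModIso (asIso (ClSub.unitToPush φ)) (Iso.refl N) ≪≫
    asIso (tensorDesc (H27Mul.projPairing φ (Coh.structureModule X) N)) ≪≫
      (Coh.push φ).mapIso (tensorLeftUnitIso _)⟩

theorem eq_of_pullback_iso (hu : IsIso (ClSub.unitToPush φ)) {N N' : Y.Modules} (hN : PicF.IsInvertible N)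
    (hN' : PicF.IsInvertible N') (e : (Scheme.Modules.pullback φ).obj N ≅ (Scheme.Modules.pullback φ).obj N') :
    Nonempty (N ≅ N') := by
  obtain ⟨a⟩ := nonempty_iso_push φ hu hN
  obtain ⟨b⟩ := nonempty_iso_push φ hu hN'
  exact ⟨a ≪≫ (Scheme.Modules.pushforward φ).mapIso e ≪≫ b.symm⟩

variable {k : Type u} [Field k] [X.Over (Spec (CommRingCat.of k))] [IsProper (X ↘ Spec (CommRingCat.of k))]
  [IsIntegral X]

variable (k) in
include k in
/-- The fibre space of a semiample invertible module. -/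
theorem exists_fibreSpace {L : X.Modules} (hL : PicF.IsInvertible L) {m₁ : ℕ} (hm₁ : 0 < m₁)
    (hg : Curv2.IsGloballyGenerated (CohB1.tensorPow L m₁)) :
    ∃ (Y : Scheme.{u}) (g : Y ⟶ Spec (CommRingCat.of k)) (HY : Y.Modules) (φ : X ⟶ Y),
      IsIntegral Y ∧ IsProper g ∧ CohB1.IsAmple HY ∧
      φ ≫ g = X ↘ Spec (CommRingCat.of k) ∧ Surjective φ ∧ IsIso (ClSub.unitToPush φ) ∧
      ∀ m : ℕ, 0 < m → Curv2.IsGloballyGenerated (CohB1.tensorPow L m) →
        ∃ A : Y.Modules, CohB1.IsAmple A ∧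
          Nonempty ((Scheme.Modules.pullback φ).obj A ≅ CohB1.tensorPow L m) := by
  obtain ⟨n, r, hr, ⟨τ⟩⟩ := H27Mul.exists_toPn_gg (k := k) (isInvertible_tensorPow hL m₁) hg
  letI : (CohB1.ProjSpace n k).Over (Spec (CommRingCat.of k)) := ⟨CohB1.ProjSpace.toSpec n k⟩
  haveI : IsProper (CohB1.ProjSpace n k ↘ Spec (CommRingCat.of k)) :=
    inferInstanceAs (IsProper (CohB1.ProjSpace.toSpec n k))
  haveI := H28Int.isNoetherian k (X := CohB1.ProjSpace n k)
  haveI : IsProper r := by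
    haveI : IsProper (r ≫ CohB1.ProjSpace.toSpec n k) := hr ▸ ‹IsProper (X ↘ Spec (CommRingCat.of k))›
    exact IsProper.of_comp r (CohB1.ProjSpace.toSpec n k)
  haveI : IsFinite r.fromNormalization := S1297.result r
  haveI := H8Props.Stein.surjective_toNormalization r
  have hφ : ∀ U : r.normalization.Opens, IsIso (r.toNormalization.app U) := (S0388.result r).2
  have hu : IsIso (ClSub.unitToPush r.toNormalization) := LeadBC.GenBC.isIso_unitToPush_of_app _ hφ
  let A₀ := (Scheme.Modules.pullback r.fromNormalization).obj (Twist.twistProjSpace n k 1)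
  have hA₀ : CohB1.IsAmple A₀ := isAmple_pullback_of_isAffineHom _ (isAmple_twistProjSpace n k)
  let e₀ : (Scheme.Modules.pullback r.toNormalization).obj A₀ ≅ CohB1.tensorPow L m₁ :=
    (Scheme.Modules.pullbackComp r.toNormalization r.fromNormalization).app _ ≪≫
      (Scheme.Modules.pullbackCongr r.toNormalization_fromNormalization).app _ ≪≫ τ
  refine ⟨r.normalization, r.fromNormalization ≫ CohB1.ProjSpace.toSpec n k, A₀, r.toNormalization,
    inferInstance, inferInstance, hA₀, ?_, inferInstance, hu, fun m hm hgm => ?_⟩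
  · rw [← Category.assoc, r.toNormalization_fromNormalization, hr]
  obtain ⟨a⟩ := exists_iso_mul hL m m₁
  obtain ⟨b⟩ := exists_iso_mul hL m₁ m
  obtain ⟨c⟩ := tensorPow_congr e₀ m
  obtain ⟨d⟩ := exists_iso_pullback_tensorPow r.toNormalization hA₀.1 m
  have hB := isInvertible_tensorPow hA₀.1 m
  let Ψ : CohB1.tensorPow (CohB1.tensorPow L m) m₁ ≅
      (Scheme.Modules.pullback r.toNormalization).obj (CohB1.tensorPow A₀ m) :=
    a ≪≫ eqToIso (by rw [mul_comm]) ≪≫ b.symm ≪≫ c.symm ≪≫ d.symm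
  obtain ⟨hA, hc⟩ := descend r.toNormalization hφ (isInvertible_tensorPow hL m) hgm hB hm₁ Ψ
  haveI := hc
  let A := (Scheme.Modules.pushforward r.toNormalization).obj (CohB1.tensorPow L m)
  let eA : (Scheme.Modules.pullback r.toNormalization).obj A ≅ CohB1.tensorPow L m :=
    asIso ((Scheme.Modules.pullbackPushforwardAdjunction r.toNormalization).counit.app (CohB1.tensorPow L m))
  refine ⟨A, ?_, ⟨eA⟩⟩
  obtain ⟨u⟩ := exists_iso_pullback_tensorPow r.toNormalization hA m₁
  obtain ⟨v⟩ := tensorPow_congr eA m₁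
  obtain ⟨w⟩ := eq_of_pullback_iso r.toNormalization hu (isInvertible_tensorPow hA m₁) hB (u ≪≫ v ≪≫ Ψ)
  exact (isAmple_tensorPow_iff hA m₁ hm₁).2
    (isAmple_of_iso w.symm ((isAmple_tensorPow_iff hA₀.1 m hm).1 hA₀))

end Groth.Agent.H27Pos
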